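import Cfsg.Agent.Helper28.S44Sub
import Cfsg.Agent.Helper28.S44A.Main
import Cfsg.Agent.Helper28.S44K.Main
set_option autoImplicit false
set_option linter.constructorNameAsVariable false
namespace Cfsg.Agent.Helper28.S44C
open Cfsg.Agent.Helper28 Cfsg.Spor

theorem hY0 : S44A.Y = Set.range (fun z => FreeGroup.of (S44KD.iota z)) := by
  ext y
  constructor
  · intro (h : y ∈ S44A.Ylist)
    simp only [S44A.Ylist, List.mem_cons, List.not_mem_nil, or_false] at h
    rcases h with rfl
    exact ⟨.x, rfl⟩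
  · rintro ⟨z, rfl⟩
    show _ ∈ S44A.Ylist
    cases z <;> simp [S44A.Ylist, S44KD.iota]

theorem hY1 : S44K.Y = ∅ := by
  ext y; simp [S44K.Ylist]

theorem upper1 : Finite (PresentedGroup S44K.R) ∧ Nat.card (PresentedGroup S44K.R) = 17 :=
  card_of_index_bot S44K.R S44K.Y hY1 17 (by omega) S44K.main_index

theorem upper0 : Finite (PresentedGroup S44A.R) ∧
    Nat.card (PresentedGroup S44A.R) ≤ 57600 * 17 := by
  obtain ⟨h1, h2, -⟩ := card_le_of_link S44KD.iota S44K.R S44A.R S44KD.hrels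
    S44A.Y hY0 57600 (17) (by omega) S44A.main_index upper1.1 (le_of_eq upper1.2)
  exact ⟨h1, h2⟩

theorem upper : Finite (PresentedGroup S44A.R) ∧ Nat.card (PresentedGroup S44A.R) ≤ 979200 :=
  ⟨upper0.1, le_trans upper0.2 (by norm_num)⟩

end Cfsg.Agent.Helper28.S44C
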