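import Cfsg.Agent.Helper28.S44C.LvD3
set_option autoImplicit false
set_option maxRecDepth 1000000
namespace Cfsg.Agent.Helper28.S44C
open Cfsg.Agent.Helper28 Cfsg.Agent.Helper28.S44B
theorem orb_ok3_p0 : allLtFrom (orbOkW ws3 2 ptabs orb3) 0 85 = true := by decide +kernel
theorem let_ok3 : lettersOkW ws3 2 ptabs.L = true := by decide +kernel
theorem fix_ok3 : fixOkW ws3 2 ptabs [2, 0] = true := by decide +kernel
theorem cnt3 : countEq (fun j => oRoot (orb3 j)) 30 85 = 45 := by decide +kernel
end Cfsg.Agent.Helper28.S44C
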