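import Cfsg.Agent.Helper28.S44B.Main
import Cfsg.Agent.Helper28.CosetChain
import Cfsg.Agent.Helper28.CosetBig
set_option autoImplicit false
set_option maxRecDepth 1000000
namespace Cfsg.Agent.Helper28.S44C
open Cfsg.Agent.Helper28 Cfsg.Agent.Helper28.S44B
def oleaf1_0 : Nat := 0x8010004d00000000901000540000000070100045000000006010004e000000007010004c0000000080100052000000005010003e0000000070000051000000006010003a000000006000004a000000005010003f00000000700000370000000060000035000000007010004b000000005000003e000000006010002f000000006000002f00000000701000510000000050100032000000008010004700000000401000290000000040000029000000004010002800000000701000480000000090100025000000007010003700000000500000400000000070000022000000006010004a0000000060100020000000008010004900000000501000400000000080000047000000008010002a000000004010001c000000008010003b000000006010004600000000501000190000000060100042000000006010001800000000600000420000000070100016000000007010003800000000301000150000000030000015000000008000003d000000008010003d000000008000003b000000008010001a000000004000001c000000006010001200000000700000380000000050000032000000009010002400000000601000350000000090100034000000003010000f00000000901000310000000070100030000000004000000d000000005000000c000000006000000b000000006010000a00000000201000090000000090100027000000008010000700000000501000230000000060000005000000007000001e0000000020000001000000008000001a0000000030100002000000004010000d000000005010000c0000000050000004000000001000000000000000800000070000000070100006000000006000001200000000501000040000000040100003000000003000000200000000201000010000000010100000000000000000000000000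
def orbTr1 : Tr := (.leaf oleaf1_0)
/-- the orbit records of level 1 -/
noncomputable def orb1 : Nat → Nat := fun i => orbTr1.look 10 1023 64 18446744073709551615 i
def wsTr1 : WTr := (.node (.leaf [0]) (.leaf [2]))
/-- the words of level 1 -/
noncomputable def ws1 : Nat → List Nat := wsTr1.get
end Cfsg.Agent.Helper28.S44C
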