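import Cfsg.Agent.Helper28.S44B.Main
import Cfsg.Agent.Helper28.CosetChain
import Cfsg.Agent.Helper28.CosetBig
set_option autoImplicit false
set_option maxRecDepth 1000000
namespace Cfsg.Agent.Helper28.S44C
open Cfsg.Agent.Helper28 Cfsg.Agent.Helper28.S44B
def oleaf2_0 : Nat := 0x6000001d0000100040000030000010007010003900002000501000150000200030100046000020003000000d00002000501000320000200060100027000020006010001e0000200070100024000010005000002d0000100070000039000020006010004a0000100050000042000020002010003400002000500000050000200030000046000020002010003e000010004010001a000020007000004d000020007000001700002000200000260000200010000001000010004010004f000020003000003f00002000600000450000200070000018000020006010001400002000601000130000200050000008000020007010004d0000200070100018000020001010000200002000701000210000200040000050000020003010000d0000200030100043000010003000000e00001000401000440000200040100009000010004010002f0000100050100007000020005010001900002000600000200000200050000007000020005010003d0000200010000002000020005000003d000020006010001d000010005010000f000020006000004e0000200060100037000020005010000500002000701000480000100050000015000020005000002c0000100010100001000010005010002e000020003010003f00002000400000310000200060000025000020006010002a0000200030000043000010004000004f00002000500000190000200050100008000020005000001000002000501000530000100040100031000020004000001a000020002000003e000010002010002600002000700000210000200070000038000020006010004e000020003010000e0000100040100050000020004010003c0000200070100022000020004000003c0000200060100020000020006000004700002000000000000000200000000000000010000000000000000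
def orbTr2 : Tr := (.leaf oleaf2_0)
/-- the orbit records of level 2 -/
noncomputable def orb2 : Nat → Nat := fun i => orbTr2.look 10 1023 64 18446744073709551615 i
def wsTr2 : WTr := (.node (.leaf [2, 2, 0, 2, 2, 2, 2, 0, 2, 0]) (.leaf [2, 2, 0, 2, 0, 3, 3, 3, 3, 3, 3]))
/-- the words of level 2 -/
noncomputable def ws2 : Nat → List Nat := wsTr2.get
end Cfsg.Agent.Helper28.S44C
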