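import Cfsg.Agent.Helper28.S44B.Main
import Cfsg.Agent.Helper28.CosetChain
import Cfsg.Agent.Helper28.CosetBig
set_option autoImplicit false
set_option maxRecDepth 1000000
namespace Cfsg.Agent.Helper28.S44C
open Cfsg.Agent.Helper28 Cfsg.Agent.Helper28.S44B
def oleaf3_0 : Nat := 0x540000000000000053000000000000005200000000000000510004010002b0001e000501000270001e000000000000004e000600000130001e000600000220001e000000000000004b000000000000004a0004010002e0001e0000000000000048000501000490001e000000000000004600000000000000450002000003c0001e0000000000000043000000000000004200000000000000410005000003f0001e0004000003d0001e000000000000003e0003000001b0001e0001000001e0001e000601000360001e0004000002e0001e000601000220001e0006010004f0001e00000000000000370005000003a0001e000500000490001e000301000440001e000201000180001e0005010003a0001e0002010003c0001e0000000000000030000000000000002f000300000440001e000000000000002d000000000000002c000300000310001e0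00000000000002a0000000000000029000701000120001e0004000002b0001e0000000000000026000400000340001e0000000000000024000601000320001e000500000250001e0000000000000021000601000130001e000000000000001f000000000000001e000000000000001d000000000000001c000200000180001e000501000250001e00000000000000190001010001e0001e0000000000000017000000000000001600000000000000150004010003d0001e000500000270001e000600000360001e00000000000000110000000000000010000601000400001e000000000000000e000000000000000d000501000500001e000401000340001e000700000380001e0000000000000009000701000070001e000600000350001e0007000003b0001e000501000140001e000600000470001e0000000000000003000000000000000200000000000000010000000000000000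
def orbTr3 : Tr := (.leaf oleaf3_0)
/-- the orbit records of level 3 -/
noncomputable def orb3 : Nat → Nat := fun i => orbTr3.look 10 1023 64 18446744073709551615 i
def wsTr3 : WTr := (.node (.leaf [2, 2, 2, 2, 2, 2, 1, 3, 1, 2, 2, 2, 2, 1, 3, 1, 3, 3, 1, 3, 1, 3, 3, 3, 3, 1, 3, 3, 1, 3, 1, 3, 3, 3, 3, 1, 2, 2, 2, 2, 1, 3, 1, 3, 3, 1, 3, 1, 3, 3, 3, 3, 1, 3, 3, 1, 3, 1, 3, 3, 3, 0, 3, 3, 3, 3, 0, 2, 2, 2, 2, 0, 2, 0, 2, 2, 0, 2, 0, 3, 3, 3, 3, 0, 2, 2, 2, 2, 0, 2, 0, 2, 2, 0, 2, 2, 2, 2, 0, 2, 0, 2, 2, 2, 2, 2, 2, 1, 2, 2, 2, 0, 2, 0, 2, 2, 0, 2, 2, 2, 2, 0, 2, 0, 2, 2, 2, 2, 2, 2, 1, 3, 1, 2, 2, 2, 2, 1, 3, 1, 3, 3, 1, 3, 1, 3, 3, 3, 3, 1, 2, 2, 2, 2, 1, 3, 1, 2, 2, 2, 2, 1, 3, 1, 2, 2, 2, 2, 1, 3, 1, 3, 3]) (.leaf [2, 2, 2, 2, 2, 2, 1, 3, 1, 2, 2, 2, 2, 1, 2, 2, 2, 0, 2, 0, 2, 2, 0, 2, 0, 3, 3, 3, 3, 0, 2, 0, 3, 3, 3, 3, 3, 3, 1, 3, 1, 3, 3, 3, 0, 3, 3, 3, 3, 3, 3, 1, 3, 1, 3, 3, 3, 3, 1, 3, 3, 1, 3, 1, 3, 3, 3, 0, 3, 3, 3,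 3, 3, 3, 1, 3, 1, 3, 3, 3, 3, 1, 2, 2, 2, 2, 1, 3, 1, 2, 2, 2, 2, 1, 3, 1, 3, 3, 1, 3, 1, 3, 3, 3, 0, 3, 3, 3, 3, 0, 2, 2, 2, 2, 0, 2, 0, 2, 2, 0, 2, 0, 3, 3, 3, 3, 3, 3, 1, 3, 1, 3, 3, 3, 3, 1, 2, 2, 2, 2, 1, 3, 1, 2, 2, 2, 2, 1, 3, 1, 3, 3, 1, 3, 1, 3, 3, 3, 3, 1, 3, 3, 1, 3, 1, 3, 3, 3, 3, 1, 3, 3]))
/-- the words of level 3 -/
noncomputable def ws3 : Nat → List Nat := wsTr3.get
end Cfsg.Agent.Helper28.S44C
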